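import Groth.Agent.Dix.Cast5
import Groth.Agent.S2122
import Groth.Agent.S8914
import Groth.Agent.Ega2.SecCalc
import Groth.Agent.Pi1C.LefFinal

/-!
# The complement of an ample effective Cartier divisor is affine
-/

set_option autoImplicit false
universe u
open CategoryTheory CategoryTheory.Limits AlgebraicGeometry

namespace K363.AffCompl

/-- An ideal whose ideal module has a tensor inverse is effective Cartier. -/
theorem isEffCartier {X : Scheme.{u}} {I : X.IdealSheafData} {L : X.Modules}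
    (h : ClSub.IsInverseOf L (ClSub.idealMod I)) : BlowUp.IsEffCartierIdeal I := by
  obtain ⟨e⟩ := h
  exact (Groth.Agent.S8914.result I).1 (Groth.Agent.S2122.result (ClSub.idealMod I) L
    (Groth.Agent.Ega2.Tens.swap (ClSub.idealMod I) L ≪≫ e))

/-- The canonical section. -/
theorem exists_sec {X : Scheme.{u}} {I : X.IdealSheafData} {L : X.Modules} (hL : PicF.IsInvertible L)
    (h : ClSub.IsInverseOf L (ClSub.idealMod I)) :
    ∃ s : Coh.structureModule X ⟶ L, (I.support : Set X) = (CohB1.genLocus L s : Set X)ᶜ := by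
  have hI := isEffCartier h
  have hk : I.subschemeι.ker = I := Scheme.IdealSheafData.ker_subschemeι I
  have hs := Groth.Agent.Dix.Cast5.exists_section I.subschemeι (by rw [hk]; exact hI)
  rw [Scheme.IdealSheafData.range_subschemeι, hk] at hs
  obtain ⟨s, hs⟩ := hs
  have hIi := Groth.Agent.Dix.IdealModCartier.isInvertible_idealMod hI
  have hdi := Groth.Agent.Grpsch.PicGrp.isInvertible_dual hIi
  obtain ⟨e⟩ : Nonempty (Groth.Agent.Grpsch.PicGrp.dual (ClSub.idealMod I) ≅ L) := by
    obtain ⟨e1⟩ := h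
    have h1 : Groth.Agent.Grpsch.PicGrp.mk L hL * Groth.Agent.Grpsch.PicGrp.mk _ hIi = 1 :=
      Groth.Agent.Grpsch.PicGrp.mk_congr e1
    have h2 : Groth.Agent.Grpsch.PicGrp.mk _ hdi * Groth.Agent.Grpsch.PicGrp.mk _ hIi = 1 :=
      Groth.Agent.Grpsch.PicGrp.mk_congr (Groth.Agent.Ega2.Tens.swap _ _ ≪≫
        (@asIso _ _ _ _ (Groth.Agent.Grpsch.PicGrp.ev (ClSub.idealMod I)) (Groth.Agent.Grpsch.PicGrp.isIso_ev hIi)))
    exact (Groth.Agent.Grpsch.PicGrp.mk_eq_iff hdi hL).1 (mul_right_cancel (h2.trans h1.symm))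
  refine ⟨s ≫ e.hom, ?_⟩
  rw [Groth.Agent.Ega2.SecCalc.genLocus_comp, hs, compl_compl]

/-- The complement of an ample effective Cartier divisor on a proper scheme over a field is affine. -/
theorem exists_affineOpen {k : Type u} [Field k] {X : Scheme.{u}} (f : X ⟶ Spec (CommRingCat.of k)) [IsProper f]
    {I : X.IdealSheafData} {L : X.Modules} (hL : CohB1.IsAmple L) (h : ClSub.IsInverseOf L (ClSub.idealMod I)) :
    ∃ V : X.Opens, IsAffineOpen V ∧ (V : Set X) = (Set.range I.subschemeι)ᶜ := by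
  obtain ⟨s, hs⟩ := exists_sec hL.1 h
  refine ⟨CohB1.genLocus L s, Groth.Agent.Pi1C.LefFinal.isAffineOpen_genLocus f hL s, ?_⟩
  rw [Scheme.IdealSheafData.range_subschemeι, hs, compl_compl]

end K363.AffCompl
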