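import Mathlib.CategoryTheory.Abelian.Refinements
import Mathlib.Algebra.Homology.ShortComplex.Abelian
import Mathlib.Algebra.Homology.ShortComplex.ShortExact
import Mathlib.CategoryTheory.Preadditive.Basic

/-!
# The kernel of a morphism between two multiplication sequences

`g : A ⟶ B`, `0 → μA → A → A → 0` and `0 → μB → B → B → 0` exact (multiplication by `l`), `m : μA ⟶ μB` the
induced map, an epimorphism: then `0 → ker m → ker g → ker g → 0` is exact.
-/

set_option autoImplicit false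

open CategoryTheory CategoryTheory.Limits

namespace K363.KerSeq

variable {C : Type*} [Category C] [Abelian C] {A B μA μB : C} (g : A ⟶ B) (m : μA ⟶ μB) (jA : μA ⟶ A)
  (jB : μB ⟶ B) (l : ℕ)

theorem shortExact (wA : jA ≫ (l • 𝟙 A) = 0) (hA : (ShortComplex.mk jA (l • 𝟙 A) wA).ShortExact)
    (wB : jB ≫ (l • 𝟙 B) = 0) (hB : (ShortComplex.mk jB (l • 𝟙 B) wB).ShortExact)
    (hm : m ≫ jB = jA ≫ g) [Epi m] :
    ∃ (u : kernel m ⟶ kernel g) (w : u ≫ (l • 𝟙 (kernel g)) = 0),
      (ShortComplex.mk u (l • 𝟙 (kernel g)) w).ShortExact := by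
  have hmA : Mono jA := hA.mono_f
  have hmB : Mono jB := hB.mono_f
  have heA : Epi (l • 𝟙 A) := hA.epi_g
  have h0 : (kernel.ι m ≫ jA) ≫ g = 0 := by
    rw [Category.assoc, ← hm, kernel.condition_assoc, zero_comp]
  let u : kernel m ⟶ kernel g := kernel.lift g (kernel.ι m ≫ jA) h0
  have hu : u ≫ kernel.ι g = kernel.ι m ≫ jA := kernel.lift_ι _ _ _
  have hl : ∀ {T : C} (z : T ⟶ kernel g), (z ≫ (l • 𝟙 (kernel g))) ≫ kernel.ι g = (z ≫ kernel.ι g) ≫ (l • 𝟙 A) := by
    intro T z
    simp only [Preadditive.comp_nsmul, Preadditive.nsmul_comp, Category.comp_id]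
  have w : u ≫ (l • 𝟙 (kernel g)) = 0 := by
    rw [← cancel_mono (kernel.ι g), hl, hu, Category.assoc, wA, comp_zero, zero_comp]
  have hmono : Mono u := by
    have : Mono (u ≫ kernel.ι g) := by rw [hu]; infer_instance
    exact mono_of_mono u (kernel.ι g)
  refine ⟨u, w, { exact := ?_, mono_f := hmono, epi_g := ?_ }⟩
  · rw [ShortComplex.exact_iff_exact_up_to_refinements]
    intro T z hz
    dsimp at z hz
    have h1 : (z ≫ kernel.ι g) ≫ (l • 𝟙 A) = 0 := by rw [← hl, hz, zero_comp]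
    obtain ⟨T', π, hπ, y, hy⟩ := hA.exact.exact_up_to_refinements (z ≫ kernel.ι g) h1
    dsimp at y hy
    have h2 : y ≫ m = 0 := by
      rw [← cancel_mono jB, Category.assoc, hm, ← Category.assoc, ← hy, Category.assoc, Category.assoc,
        kernel.condition, comp_zero, comp_zero, zero_comp]
    refine ⟨T', π, hπ, kernel.lift m y h2, ?_⟩
    dsimp
    rw [← cancel_mono (kernel.ι g), Category.assoc, Category.assoc, hu, kernel.lift_ι_assoc, ← hy]
  · dsimp
    rw [epi_iff_surjective_up_to_refinements]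
    intro T y
    obtain ⟨T₁, π₁, hπ₁, a, ha⟩ := surjective_up_to_refinements_of_epi (l • 𝟙 A) (y ≫ kernel.ι g)
    have h1 : (a ≫ g) ≫ (l • 𝟙 B) = 0 := by
      have h2 : (a ≫ g) ≫ (l • 𝟙 B) = (a ≫ (l • 𝟙 A)) ≫ g := by
        simp only [Preadditive.comp_nsmul, Preadditive.nsmul_comp, Category.comp_id]
      rw [h2, ← ha, Category.assoc, Category.assoc, kernel.condition, comp_zero, comp_zero]
    obtain ⟨T₂, π₂, hπ₂, b, hb⟩ := hB.exact.exact_up_to_refinements (a ≫ g) h1
    dsimp at b hb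
    obtain ⟨T₃, π₃, hπ₃, c, hc⟩ := surjective_up_to_refinements_of_epi m b
    have h3 : (π₃ ≫ π₂ ≫ a - c ≫ jA) ≫ g = 0 := by
      rw [Preadditive.sub_comp, Category.assoc, Category.assoc, Category.assoc, ← hm, hb, ← Category.assoc c,
        ← hc, Category.assoc, sub_self]
    refine ⟨T₃, π₃ ≫ π₂ ≫ π₁, inferInstance, kernel.lift g _ h3, ?_⟩
    rw [← cancel_mono (kernel.ι g), hl, kernel.lift_ι, Preadditive.sub_comp, Category.assoc c, wA, comp_zero,
      sub_zero]
    simp only [Category.assoc]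
    rw [← ha]

end K363.KerSeq
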