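import Groth.Agent.EtCoh.K721.AffVan
import Groth.Agent.S3189
import Groth.Agent.EtpbcA.PullFLC
import Groth.Agent.Sga4B.ShriekTools

/-!
# `H^q(X, V_! F) = 0` for `q < N`, `X` proper, `V` affine open smooth of dimension `N` over a field, `F` finite
locally constant
-/

set_option autoImplicit false
universe u
open CategoryTheory CategoryTheory.Limits AlgebraicGeometry Opposite

namespace K363.Van

open Groth.Agent Groth.Agent.Sga2lef.H92

attribute [local instance] AlgebraicGeometry.smoothOfRelativeDimension_isStableUnderBaseChange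

/-- Vanishing of the compactly supported cohomology of a finite locally constant sheaf on a smooth affine open in
degrees below the dimension, over an arbitrary field. -/
theorem subsingleton_H (k : Type u) [Field k] {X : Scheme.{u}} (f : X ⟶ Spec (CommRingCat.of k)) [IsProper f]
    (V : X.Opens) (hV : IsAffineOpen V) (N : ℕ) [SmoothOfRelativeDimension N (V.ι ≫ f)]
    (m : ℕ) (hm : (m : k) ≠ 0) (F : EtCoh.Ab (V : Scheme.{u})) (hF : EtCoh.IsFiniteLocallyConstant F)
    (hFm : EtCoh.KilledBy m F) (q : ℕ) (hq : q < N) :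
    Subsingleton (EtCoh.H X ((EtShriek.extZero V.ι).obj F) q) := by
  refine Descend.H_subsingleton_of_algClosed f _ N ?_ q hq
  intro L _ _ t W w g hsq q hq
  have hsq' : IsPullback (pullback.fst w V.ι) (pullback.snd w V.ι) w V.ι :=
    IsPullback.of_hasPullback w V.ι
  have hsq2 : IsPullback (pullback.snd w V.ι) (pullback.fst w V.ι ≫ g) (V.ι ≫ f) t :=
    hsq'.flip.paste_vert hsq
  have hg : IsProper g := MorphismProperty.of_isPullback hsq ‹IsProper f›
  let φ : k →+* L := (Spec.preimage t).hom
  have hmL : (m : L) ≠ 0 := by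
    rw [← map_natCast φ m]
    exact (map_ne_zero φ).2 hm
  have hsm : SmoothOfRelativeDimension N (pullback.fst w V.ι ≫ g) :=
    MorphismProperty.of_isPullback (P := @SmoothOfRelativeDimension N) hsq2 ‹_›
  have hVa : IsAffine (V : Scheme.{u}) := hV
  have hw : IsAffineHom w := by
    have h1 : IsAffineHom t := inferInstance
    exact MorphismProperty.of_isPullback hsq.flip h1
  have haff : IsAffine (pullback w V.ι) := by
    have h2 : IsAffineHom (pullback.snd w V.ι) := inferInstance
    exact isAffine_of_isAffineHom (pullback.snd w V.ι)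
  have h1 := Groth.Agent.S3189.result L m hmL g (pullback.fst w V.ι) N 1 (fun _ => ⊤)
    (fun _ => isAffineOpen_top _) (by simp) ((EtCoh.pull (pullback.snd w V.ι)).obj F)
    (Groth.Agent.EtpbcA.PullFLC.isFLC_pull _ F hF) (Groth.Agent.Sga4B.ShriekTools.killedBy_pull _ _ _ hFm) q hq
  let e : (EtCoh.pull w).obj ((EtShriek.extZero V.ι).obj F) ≅
      (EtShriek.extZero (pullback.fst w V.ι)).obj ((EtCoh.pull (pullback.snd w V.ι)).obj F) :=
    ((Groth.Agent.Etcore.ShriekBaseChange.extZeroBaseChange V.ι w (pullback.fst w V.ι)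
      (pullback.snd w V.ι) hsq').app _).symm
  exact Groth.Agent.EtpbcA.CdEtLeray.H_subsingleton_of_iso e.symm q h1

end K363.Van
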