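import Groth.Agent.Dix.K363.KerSeq
import Groth.Agent.Dix.K363.AffCompl
import Groth.Agent.Dix.K363.Van
import Groth.Agent.EtCoh.K721.KumRes
import Groth.Agent.Sga5.H848.PullMu
import Groth.Agent.Sga4h.H926.MuFLC
import Groth.Agent.Dix.KummerLES
import Groth.Agent.S0654
import Groth.Agent.Dix.K281.ClosedGm
import Groth.Agent.Sga4h.EtaleRes

/-!
# Multiplication by `l` on the cohomology of `ker (G_m,X → i_* G_m,Y)`, `Y` an ample divisor, `l` prime to the
characteristic
-/

set_option autoImplicit false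
universe u
open CategoryTheory CategoryTheory.Limits AlgebraicGeometry Opposite

namespace K363.NodeD

open Groth.Agent

section mu

variable {X Y : Scheme.{u}} (i : Y ⟶ X) [IsClosedImmersion i] (l : ℕ)

theorem mm_eq : K721.KumRes.mm i l =
    (EtCoh.pullPushAdj i).unit.app (EtCoh.mu X l) ≫ (EtCoh.push i).map (Etcore.Kappa228.pullMu l i) :=
  Adjunction.homEquiv_unit ..

variable (hl : IsUnit (l : Γ(X, ⊤))) (V : X.Opens) (hV : (V : Set X) = (Set.range i)ᶜ)

include hl hV in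
theorem epi_mm : Epi (K721.KumRes.mm i l) := by
  have h1 : IsIso (Etcore.Kappa228.pullMu l i) := Sga5.H848.PullMu.isIso_pullMu i l hl
  obtain ⟨w, hw⟩ := Groth.Agent.S0654.result i V hV (EtCoh.mu X l)
  have h2 : Epi ((EtCoh.pullPushAdj i).unit.app (EtCoh.mu X l)) := hw.epi_g
  rw [mm_eq]
  exact epi_comp _ _

include hl hV in
/-- The kernel of `μ_l → i_* μ_l`. -/
theorem nonempty_iso : Nonempty (kernel (K721.KumRes.mm i l) ≅
    (EtShriek.extZero V.ι).obj ((EtShriek.restrAlong V.ι).obj (EtCoh.mu X l))) := by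
  have h1 : IsIso (Etcore.Kappa228.pullMu l i) := Sga5.H848.PullMu.isIso_pullMu i l hl
  obtain ⟨w, hw⟩ := Groth.Agent.S0654.result i V hV (EtCoh.mu X l)
  rw [mm_eq]
  exact ⟨kernelCompMono _ _ ≪≫ (kernelIsKernel _).conePointUniqueUpToIso hw.fIsKernel⟩

include hl hV in
/-- `0 → ker (μ_l → i_* μ_l) → K → K → 0`, `K = ker (G_m → i_* G_m)`. -/
theorem exists_shortExact : ∃ (u : kernel (K721.KumRes.mm i l) ⟶ kernel (EtLim.GmPush i))
    (w : u ≫ (l • 𝟙 (kernel (EtLim.GmPush i))) = 0),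
      (ShortComplex.mk u (l • 𝟙 (kernel (EtLim.GmPush i))) w).ShortExact := by
  have h1 : Epi (EtCoh.powMap X l) := Groth.Agent.S0108.result X l hl
  have hlY : IsUnit (l : Γ(Y, ⊤)) := by
    have := hl.map i.appTop.hom
    rwa [map_natCast] at this
  have h2 : Epi (EtCoh.powMap Y l) := Groth.Agent.S0108.result Y l hlY
  have h3 := epi_mm i l hl V hV
  exact KerSeq.shortExact (EtLim.GmPush i) (K721.KumRes.mm i l) (EtCoh.muι X l)
    ((EtCoh.push i).map (EtCoh.muι Y l)) l (Sga4B.KummerH1.kummer_zero X l)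
    (Sga4B.KummerH1.kummer_shortExact X l h1) (K721.KumRes.push_w i l) (K721.KumRes.push_shortExact i l h2)
    (K721.KumRes.mm_ι i l)

end mu

/-- The cohomology of `ker (μ_l → i_* μ_l)` vanishes below the dimension. -/
theorem subsingleton_ker (k : Type u) [Field k] {X Y : Scheme.{u}} (f : X ⟶ Spec (CommRingCat.of k)) [IsProper f]
    (N : ℕ) [SmoothOfRelativeDimension N f] (i : Y ⟶ X) [IsClosedImmersion i] (l : ℕ) (hlk : (l : k) ≠ 0)
    (V : X.Opens) (hVa : IsAffineOpen V) (hV : (V : Set X) = (Set.range i)ᶜ) (q : ℕ) (hq : q < N) :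
    Subsingleton (EtCoh.H X (kernel (K721.KumRes.mm i l)) q) := by
  have hl : IsUnit (l : Γ(X, ⊤)) := by
    have h0 : IsUnit ((l : ℕ) : Γ(Spec (CommRingCat.of k), ⊤)) := by
      have h1 := (IsUnit.mk0 (l : k) hlk).map (Scheme.ΓSpecIso (CommRingCat.of k)).inv.hom
      rwa [map_natCast] at h1
    have := h0.map f.appTop.hom
    rwa [map_natCast] at this
  have hsm : SmoothOfRelativeDimension N (V.ι ≫ f) := by
    have h1 : SmoothOfRelativeDimension (0 + N) (V.ι ≫ f) := inferInstance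
    rwa [zero_add] at h1
  obtain ⟨e⟩ := nonempty_iso i l hl V hV
  have h1 := Van.subsingleton_H k f V hVa N l hlk ((EtShriek.restrAlong V.ι).obj (EtCoh.mu X l))
    (Groth.Agent.EtpbcA.PullFLC.isFLC_of_iso ((Groth.Agent.Sga4h.EtaleRes.pullIsoRestr V.ι).app _)
      (Groth.Agent.EtpbcA.PullFLC.isFLC_pull V.ι _ (Groth.Agent.Sga4h.H926.MuFLC.isFLC_mu X l hl)))
    (fun W s => Groth.Agent.Sga4h.H926.MuFLC.killedBy_mu X l _ s) q hq
  exact Groth.Agent.EtpbcA.CdEtLeray.H_subsingleton_of_iso e.symm q h1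

/-- **Node D** of S19259. -/
theorem nodeD (k : Type u) [Field k] (X : Scheme.{u}) (f : X ⟶ Spec (CommRingCat.of k)) [IsProper f] (N : ℕ)
    [SmoothOfRelativeDimension N f]
    (𝓘 : X.IdealSheafData) (L : X.Modules) (hL : ClSub.IsInverseOf L (ClSub.idealMod 𝓘)) (hamp : CohB1.IsAmple L)
    (l : ℕ) (hlk : (l : k) ≠ 0) :
    (∀ q, q + 2 ≤ N → Function.Bijective (fun x : EtCoh.H X (kernel (EtLim.GmPush 𝓘.subschemeι)) q => l • x)) ∧
    (∀ q, q + 1 ≤ N → Function.Injective (fun x : EtCoh.H X (kernel (EtLim.GmPush 𝓘.subschemeι)) q => l • x)) := by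
  obtain ⟨V, hVa, hV⟩ := AffCompl.exists_affineOpen f hamp hL
  have hl : IsUnit (l : Γ(X, ⊤)) := by
    have h0 : IsUnit ((l : ℕ) : Γ(Spec (CommRingCat.of k), ⊤)) := by
      have h1 := (IsUnit.mk0 (l : k) hlk).map (Scheme.ΓSpecIso (CommRingCat.of k)).inv.hom
      rwa [map_natCast] at h1
    have := h0.map f.appTop.hom
    rwa [map_natCast] at this
  obtain ⟨u, w, hS⟩ := exists_shortExact 𝓘.subschemeι l hl V hV
  have hinj : ∀ q, q + 1 ≤ N → Function.Injective
      (fun x : EtCoh.H X (kernel (EtLim.GmPush 𝓘.subschemeι)) q => l • x) := by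
    intro q hq x y hxy
    have h0 := subsingleton_ker k f N 𝓘.subschemeι l hlk V hVa hV q (by omega)
    have h1 : l • (x - y) = 0 := by
      have h2 : l • x = l • y := hxy
      rw [smul_sub, h2, sub_self]
    obtain ⟨z, hz⟩ := Dix.KummerLES.g_exists_of_nsmul_eq_zero rfl hS q (x - y) h1
    have hz0 : z = 0 := Subsingleton.elim (α := EtCoh.H X (kernel (K721.KumRes.mm 𝓘.subschemeι l)) q) _ _
    rw [hz0, Abelian.Ext.zero_comp] at hz
    exact sub_eq_zero.1 hz.symm
  refine ⟨fun q hq => ⟨hinj q (by omega), fun x => ?_⟩, hinj⟩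
  have h0 := subsingleton_ker k f N 𝓘.subschemeι l hlk V hVa hV (q + 1) (by omega)
  exact Dix.KummerLES.g_exists_nsmul_of_δ_eq_zero rfl hS q x
    (Subsingleton.elim (α := EtCoh.H X (kernel (K721.KumRes.mm 𝓘.subschemeι l)) (q + 1)) _ _)

end K363.NodeD
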